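import Cfsg.Agent.Lib.Helper89.SafePres

set_option autoImplicit false
set_option maxRecDepth 1000000
set_option maxHeartbeats 0
set_option Elab.async false

namespace Cfsg.Agent.Lib.Helper93.G23A.T1

open Cfsg.Agent.Lib.Helper89.CosetCert Cfsg.Agent.Lib.Helper89.SafePres

def factB : ℕ := 0x303000700060200070007010007000700000700070300060003020006000501000600020000060005030005000502000500020100050006000005000403000400040200040003010004000100000400060300030007020003000101000300040000030001030002000002000200060100020005000002000003000100020200010004010001000300000100020300000001020000000001000000000000000007010007000602000700060000050003020006000502000500040000030004020004000202000100000000000007020003000601000200050000020004010001000300000100020300000001020000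

def finB : ℕ := 0x30006000700070007000300050002000500050002000600040004000300010006000700010004000100000006000500000002000400030002000100000000

def pw : List (ℕ × ℕ) := [(3, 0), (3, 1)]

def srels0 : List SRel := [
  ⟨[3, 0], 1, 0, 1, true⟩]

def srels : List SRel := [srels0].flatten

def rels : List Word := [
  [0, 0, 0],
  [2, 2, 2],
  [3, 0, 2, 1, 2, 0]]

def steps0 : List ℕ := [
  80280248223320724471814,
  510429716242592790300505151885239386119,
  99169786212668221161477,
  1276059525000530183769982622176561332231,
  1786490539312385814563363747354778796039,
  127504057167755008278533,
  118059684490192064872454,
  850715328378778455642214369024950665223,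
  576461783633494016,
  612490511932981249,
  648518415598747650,
  684547350056665091,
  720576284514582528,
  756605218972499969,
  792634703186231298,
  828662331974090755,
  864691747468345344,
  900720681926262785,
  936748860469936130,
  972778619561574403,
  1008807760177922048,
  1044835388965781505,
  1080864804460036098,
  1116894357393244163,
  1152921917461626880,
  1188951676553265153,
  1224980404852752386,
  1261009133152239619,
  1297038548646494208,
  1333066039995400193,
  1369095867806515202,
  1405124596106002435,
  1441152568491245568,
  1477182465021837313,
  1513211193321324546,
  1549240196498718723,
  1585269130956636160,
  1621297996695076865,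
  1657326656275087362,
  1693354285062946819]

def steps : List ℕ := [steps0].flatten

def roots : List ℕ := [0, 1, 2, 3, 4, 5, 6, 7]

def cert : Cert := ⟨2, 1, 8, factBig factB, rels, steps, 8, roots, numBig finB⟩

end Cfsg.Agent.Lib.Helper93.G23A.T1
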